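import Mathlib

/-! The largest unramified finite subalgebra of an algebra without nontrivial idempotents. -/

set_option autoImplicit false
universe u
open TensorProduct

namespace CompSchLib

variable {k : Type u} [Field k] {R : Type u} [CommRing R] [Algebra k R]

/-- Finite unramified subalgebras. -/
def Good (B : Subalgebra k R) : Prop := Module.Finite k B ∧ Algebra.FormallyUnramified k B

theorem good_range {A : Type u} [CommRing A] [Algebra k A] [Module.Finite k A]
    [Algebra.FormallyUnramified k A] (φ : A →ₐ[k] R) : Good φ.range :=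
  ⟨Module.Finite.of_surjective φ.rangeRestrict.toLinearMap φ.rangeRestrict_surjective,
    .of_surjective φ.rangeRestrict φ.rangeRestrict_surjective⟩

theorem good_sup {B C : Subalgebra k R} (hB : Good B) (hC : Good C) : Good (B ⊔ C) := by
  have := hB.1; have := hC.1
  have := hB.2; have := hC.2
  have : Algebra.FormallyUnramified k (↥B ⊗[k] ↥C) := .comp k B _
  have h := good_range (Algebra.TensorProduct.productMap B.val C.val)
  rwa [Algebra.TensorProduct.productMap_range, Subalgebra.range_val, Subalgebra.range_val] at h

theorem good_bot : Good (⊥ : Subalgebra k R) := by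
  have h := good_range (Algebra.ofId k R)
  convert h using 1
  exact (Algebra.range_ofId).symm

theorem isField [Nontrivial R] (hR : ∀ e : R, IsIdempotentElem e → e = 0 ∨ e = 1)
    {B : Subalgebra k R} (hB : Good B) : IsField B := by
  have := hB.1
  have := hB.2
  have : IsReduced B := Algebra.FormallyUnramified.isReduced_of_field k B
  have : IsArtinianRing B := IsArtinianRing.of_finite k B
  have : IsSemisimpleRing B := IsArtinianRing.isSemisimpleRing_of_isReduced B
  refine ⟨⟨0, 1, zero_ne_one⟩, mul_comm, fun {a} ha => ?_⟩
  obtain ⟨e, he, hae⟩ := IsSemisimpleRing.ideal_eq_span_idempotent (Ideal.span {a})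
  rcases hR e (congrArg Subtype.val he.eq) with h0 | h1
  · exfalso
    apply ha
    have : e = 0 := Subtype.ext h0
    rw [this, Ideal.span_singleton_eq_bot.mpr rfl] at hae
    exact Ideal.span_singleton_eq_bot.mp hae
  · have : e = 1 := Subtype.ext h1
    rw [this, Ideal.span_singleton_one] at hae
    obtain ⟨b, hb⟩ := Ideal.span_singleton_eq_top.mp hae
    exact ⟨b.inv, by rw [← hb]; exact b.val_inv⟩

theorem exists_max [Nontrivial R] (hR : ∀ e : R, IsIdempotentElem e → e = 0 ∨ e = 1)
    {K : Type u} [Field K] [Algebra k K] [Module.Finite k K] (ev : R →ₐ[k] K) :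
    ∃ L : Subalgebra k R, Good L ∧ IsField L ∧ ∀ B : Subalgebra k R, Good B → B ≤ L := by
  classical
  have hbound : ∀ B : Subalgebra k R, Good B → Module.finrank k B ≤ Module.finrank k K := by
    intro B hB
    letI := (isField hR hB).toField
    exact LinearMap.finrank_le_finrank_of_injective (f := (ev.comp B.val).toLinearMap)
      (RingHom.injective ((ev.comp B.val) : B →+* K))
  let p : ℕ → Prop := fun n => ∃ B : Subalgebra k R, Good B ∧ Module.finrank k B = n
  obtain ⟨L, hL, hn⟩ : p (Nat.findGreatest p (Module.finrank k K)) :=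
    Nat.findGreatest_spec (hbound ⊥ good_bot) ⟨⊥, good_bot, rfl⟩
  refine ⟨L, hL, isField hR hL, fun B hB => ?_⟩
  have hs := good_sup hL hB
  have h1 : Module.finrank k ↥(L ⊔ B) ≤ Module.finrank k L := by
    rw [hn]
    exact Nat.le_findGreatest (hbound _ hs) ⟨_, hs, rfl⟩
  have h2 : L.toSubmodule = (L ⊔ B).toSubmodule := by
    have := hs.1
    exact Submodule.eq_of_le_of_finrank_le
      (Subalgebra.toSubmodule.monotone (le_sup_left : L ≤ L ⊔ B)) h1
  replace h2 := Subalgebra.toSubmodule.injective h2
  exact h2 ▸ le_sup_right

end CompSchLib
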